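import Groth.Agent.EquidimLib.Points
import Groth.Agent.EquidimLib.DimBetween
import Groth.Agent.EquidimLib.FlatComponents
import Groth.Agent.FibDimLib.QFScheme
import Mathlib

/-! # Hypersurface sections of equidimensional morphisms -/

set_option autoImplicit false
universe u

open CategoryTheory AlgebraicGeometry TopologicalSpace Topology UOpenLib EquidimLib

namespace HyperLib

variable {X Y : Scheme.{u}}

theorem stalkPt_mem_zeroLocus_iff (g : Γ(X, ⊤)) (w : X) (Q : PrimeSpectrum (X.presheaf.stalk w)) :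
    stalkPt w Q ∈ X.zeroLocus ({g} : Set Γ(X, ⊤)) ↔ X.presheaf.germ ⊤ w trivial g ∈ Q.asIdeal := by
  have h1 : stalkPt w Q ∈ X.basicOpen g ↔ X.toSpecΓ.base (stalkPt w Q) ∈ PrimeSpectrum.basicOpen g := by
    rw [← Scheme.toSpecΓ_preimage_basicOpen]; rfl
  have h2 : X.toSpecΓ.base (stalkPt w Q) = PrimeSpectrum.comap (X.presheaf.germ ⊤ w trivial).hom Q :=
    congrArg (fun φ => φ.base Q) (Scheme.fromSpecStalk_toSpecΓ X w)
  have h3 : stalkPt w Q ∈ X.zeroLocus ({g} : Set Γ(X, ⊤)) ↔ stalkPt w Q ∉ X.basicOpen g := by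
    simp [Scheme.mem_zeroLocus_iff]
  rw [h3, h1, h2]
  exact not_not

theorem stalk_dim_le_one [IsLocallyNoetherian X] (g : Γ(X, ⊤)) {ξ : X}
    (hξ : ξ ∈ X.zeroLocus ({g} : Set Γ(X, ⊤)))
    (hmax : ∀ v ∈ X.zeroLocus ({g} : Set Γ(X, ⊤)), v ⤳ ξ → v = ξ) :
    ringKrullDim (X.presheaf.stalk ξ) ≤ 1 := by
  rw [← IsLocalRing.maximalIdeal_height_eq_ringKrullDim]
  refine (WithBot.coe_le_coe (b := (1 : ℕ∞))).2
    (Ideal.height_le_one_of_isPrincipal_of_mem_minimalPrimes (Ideal.span {X.presheaf.germ ⊤ ξ trivial g}) _ ?_)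
  have hpt : stalkPt ξ (IsLocalRing.closedPoint _) = ξ := Scheme.fromSpecStalk_closedPoint
  refine ⟨⟨inferInstance, ?_⟩, fun q hq _ ↦ ?_⟩
  · rw [Ideal.span_singleton_le_iff_mem]
    exact (stalkPt_mem_zeroLocus_iff g ξ (IsLocalRing.closedPoint _)).1 (by rw [hpt]; exact hξ)
  · let Q : PrimeSpectrum (X.presheaf.stalk ξ) := ⟨q, hq.1⟩
    have hQ : stalkPt ξ Q ∈ X.zeroLocus ({g} : Set Γ(X, ⊤)) :=
      (stalkPt_mem_zeroLocus_iff g ξ Q).2 ((Ideal.span_singleton_le_iff_mem _).1 hq.2)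
    have e : Q = IsLocalRing.closedPoint _ :=
      stalkPt_injective ξ ((hmax _ hQ (stalkPt_specializes ξ Q)).trans hpt.symm)
    exact (congrArg PrimeSpectrum.asIdeal e).ge

theorem dimBetween_le_one [IsLocallyNoetherian X] (g : Γ(X, ⊤)) {z₀ z : X} (h : z₀ ⤳ z)
    (hz : z ∈ X.zeroLocus ({g} : Set Γ(X, ⊤)))
    (hmax : ∀ v ∈ X.zeroLocus ({g} : Set Γ(X, ⊤)), z₀ ⤳ v → v ⤳ z → v = z) :
    dimBetween z₀ z ≤ 1 := by
  obtain ⟨P, hP⟩ := exists_stalkPt h
  haveI : IsLocalRing (X.presheaf.stalk z ⧸ P.asIdeal) := .of_surjective' _ Ideal.Quotient.mk_surjective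
  have hd : dimBetween z₀ z = ringKrullDim (X.presheaf.stalk z ⧸ P.asIdeal) := by
    rw [stalk_quotient_dim_eq z P, hP]
  rw [hd, ← IsLocalRing.maximalIdeal_height_eq_ringKrullDim]
  refine (WithBot.coe_le_coe (b := (1 : ℕ∞))).2 (Ideal.height_le_one_of_isPrincipal_of_mem_minimalPrimes
    (Ideal.span {Ideal.Quotient.mk P.asIdeal (X.presheaf.germ ⊤ z trivial g)}) _ ⟨⟨inferInstance, ?_⟩, fun q hq _ ↦ ?_⟩)
  · rw [Ideal.span_singleton_le_iff_mem]
    have hgm : X.presheaf.germ ⊤ z trivial g ∈ IsLocalRing.maximalIdeal (X.presheaf.stalk z) :=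
      (stalkPt_mem_zeroLocus_iff g z (IsLocalRing.closedPoint _)).1 (by
        rw [show stalkPt z (IsLocalRing.closedPoint _) = z from Scheme.fromSpecStalk_closedPoint]; exact hz)
    haveI := Ideal.comap_isMaximal_of_surjective (Ideal.Quotient.mk P.asIdeal) Ideal.Quotient.mk_surjective
      (K := IsLocalRing.maximalIdeal (X.presheaf.stalk z ⧸ P.asIdeal))
    rw [← Ideal.mem_comap, IsLocalRing.eq_maximalIdeal this]
    exact hgm
  · let Q : PrimeSpectrum (X.presheaf.stalk z) := PrimeSpectrum.comap (Ideal.Quotient.mk P.asIdeal) ⟨q, hq.1⟩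
    have hPQ : P ≤ Q := fun r hr ↦ by
      show Ideal.Quotient.mk P.asIdeal r ∈ q
      rw [Ideal.Quotient.eq_zero_iff_mem.2 hr]; exact zero_mem _
    have hQ : stalkPt z Q ∈ X.zeroLocus ({g} : Set Γ(X, ⊤)) :=
      (stalkPt_mem_zeroLocus_iff g z Q).2 ((Ideal.span_singleton_le_iff_mem (I := q)).1 hq.2)
    have e : Q = IsLocalRing.closedPoint _ := stalkPt_injective z
      ((hmax _ hQ (hP ▸ specializes_stalkPt hPQ) (stalkPt_specializes z Q)).trans Scheme.fromSpecStalk_closedPoint.symm)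
    intro r hr
    obtain ⟨r, rfl⟩ := Ideal.Quotient.mk_surjective r
    show r ∈ Q.asIdeal
    rw [e]
    show r ∈ IsLocalRing.maximalIdeal _
    haveI := Ideal.comap_isMaximal_of_surjective (Ideal.Quotient.mk P.asIdeal) Ideal.Quotient.mk_surjective
      (K := IsLocalRing.maximalIdeal (X.presheaf.stalk z ⧸ P.asIdeal))
    rw [← IsLocalRing.eq_maximalIdeal this]
    exact hr

variable (f : X ⟶ Y) [LocallyOfFiniteType f] [IrreducibleSpace Y] [IsLocallyNoetherian Y]
  (g : Γ(X, ⊤))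

theorem fibreClosureDim_le {x : X} {e : ℕ} {U : X.Opens} (D : EquidimData f x e U) {v : X} (hv : v ∈ U) :
    fibreClosureDim f v ≤ e :=
  D.fibreDimAt_eq f hv ▸ fibreClosureDim_le_fibreDimAt f specializes_rfl

theorem isFibreMax_of_le {x : X} {e : ℕ} {U : X.Opens} (D : EquidimData f x e U) {z : X} (hz : z ∈ U)
    (h : (e : WithBot ℕ∞) ≤ fibreClosureDim f z) : IsFibreMax f z := by
  intro v hv hzv
  by_contra hne
  have hvz : v ⤳ z := specializes_iff_mem_closure.2 hzv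
  have h1 := fibreClosureDim_eq_add f hvz hv
  have h2 := one_le_dimBetween hvz hne
  have h3 := fibreClosureDim_le f D (hvz.mem_open U.isOpen hz)
  obtain ⟨c, hc⟩ := exists_fibreClosureDim_eq_nat f z
  haveI : IsLocallyNoetherian X := LocallyOfFiniteType.isLocallyNoetherian f
  obtain ⟨k, hk⟩ := exists_dimBetween_eq_nat hvz
  rw [h1, hc, hk] at h3
  rw [hk] at h2
  rw [hc] at h
  have a1 : c + k ≤ e := by exact_mod_cast h3
  have a2 : 1 ≤ k := by exact_mod_cast h2
  have a3 : e ≤ c := by exact_mod_cast h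
  omega

/-- The dimension of the section of the fibre. -/
theorem fibreDimAt_slice_add_one {Z : Scheme.{u}} (j : Z ⟶ X) [IsClosedImmersion j]
    (hj : Set.range j.base = X.zeroLocus ({g} : Set Γ(X, ⊤))) {w : Z} {e : ℕ} {U : X.Opens}
    (D : EquidimData f (j.base w) e U)
    (hmax : ∀ z : X, f.base z = f.base (j.base w) → IsFibreMax f z → z ∉ X.zeroLocus ({g} : Set Γ(X, ⊤))) :
    ∃ e' : ℕ, e' + 1 = e ∧ FlatMor.fibreDimAt (j ≫ f) w = (e' : WithBot ℕ∞) := by
  haveI : IsLocallyNoetherian X := LocallyOfFiniteType.isLocallyNoetherian f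
  obtain ⟨z, hz, hzw, hzmax, hzd⟩ := exists_max_fibreDimAt (j ≫ f) w
  rw [fibreClosureDim_closedImmersion j f z] at hzd
  have hzU : j.base z ∈ U := (hzw.map j.continuous).mem_open U.isOpen D.mem
  obtain ⟨z₀, h0y, h0z, h0max, h0d⟩ := exists_max_fibreDimAt f (j.base z)
  have hzy : f.base (j.base z) = f.base (j.base w) := hz
  have hz₀ : z₀ ∉ X.zeroLocus ({g} : Set Γ(X, ⊤)) := hmax z₀ (h0y.trans hzy) h0max
  have hne : z₀ ≠ j.base z := fun h ↦ hz₀ (h ▸ hj ▸ ⟨z, rfl⟩)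
  have hle : dimBetween z₀ (j.base z) ≤ 1 := dimBetween_le_one g h0z (hj ▸ ⟨z, rfl⟩) fun v hv h1 h2 ↦ by
    rw [← hj] at hv
    obtain ⟨v, rfl⟩ := hv
    have hfv : f.base (j.base v) = f.base (j.base z) :=
      ((h2.map f.continuous).antisymm (h0y ▸ h1.map f.continuous)).eq
    exact congrArg j.base (hzmax v hfv (j.isEmbedding.isInducing.specializes_iff.1 h2).mem_closure)
  have e1 := fibreClosureDim_eq_add f h0z h0y
  rw [le_antisymm hle (one_le_dimBetween h0z hne), h0d, D.fibreDimAt_eq f hzU] at e1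
  obtain ⟨c, hc⟩ := exists_fibreClosureDim_eq_nat f (j.base z)
  rw [hc] at e1 hzd
  refine ⟨c, ?_, hzd.symm⟩
  have : e = c + 1 := by exact_mod_cast e1
  omega

theorem component_slice {x : X} {e : ℕ} {U : X.Opens} (D : EquidimData f x e U)
    (hmax : ∀ z : X, f.base z = f.base x → IsFibreMax f z → z ∉ X.zeroLocus ({g} : Set Γ(X, ⊤)))
    {ξ : X} (hξ : ξ ∈ X.zeroLocus ({g} : Set Γ(X, ⊤))) (hξx : ξ ⤳ x)
    (hξmax : ∀ v ∈ X.zeroLocus ({g} : Set Γ(X, ⊤)), v ⤳ ξ → v = ξ) :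
    ringKrullDim (X.presheaf.stalk ξ) = 1 ∧
      (fibreClosureDim f ξ + 1 ≤ e → f.base ξ = genericPoint Y ∧ fibreClosureDim f ξ + 1 = e) := by
  haveI : IsLocallyNoetherian X := LocallyOfFiniteType.isLocallyNoetherian f
  have hξU : ξ ∈ U := hξx.mem_open U.isOpen D.mem
  obtain ⟨ζ, hζ, hζξ⟩ := DvrDomLib.exists_generic_specializes ξ
  have hζU : ζ ∈ U := hζξ.mem_open U.isOpen hξU
  have hζη : f.base ζ = genericPoint Y := by
    obtain ⟨h1, -⟩ := D.max ζ hζU hζ
    have h2 : closure {f.base ζ} = Set.univ := by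
      have := irreducibleComponents_eq_singleton (X := (Y : Type u))
      rw [this] at h1
      exact h1
    exact ((genericPoint_spec Y).eq (show IsGenericPoint (f.base ζ) Set.univ from h2)).symm
  have hζmax : IsFibreMax f ζ := EquidimLib.isFibreMax_of_max f hζ
  have hζd : fibreClosureDim f ζ = e := D.dim ζ hζU hζmax
  -- `ξ` is not a maximal point
  have hne : ζ ≠ ξ := by
    intro h
    subst h
    let J := Scheme.IdealSheafData.vanishingIdeal (⟨closure {ζ}, isClosed_closure⟩ : Closeds X)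
    have hrange : Set.range J.subschemeι.base = closure {ζ} := by
      rw [J.range_subschemeι, Scheme.IdealSheafData.coe_support_vanishingIdeal]
      rfl
    obtain ⟨ζ₀, hζ₀⟩ : ζ ∈ Set.range J.subschemeι.base := hrange ▸ subset_closure rfl
    obtain ⟨x₀, hx₀⟩ : x ∈ Set.range J.subschemeι.base := hrange ▸ hξx.mem_closure
    have hsp : ζ₀ ⤳ x₀ := J.subschemeι.isEmbedding.isInducing.specializes_iff.1 (hζ₀.symm ▸ hx₀.symm ▸ hξx)
    have hd := fibreClosureDim_le_fibreDimAt (J.subschemeι ≫ f) hsp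
    obtain ⟨z, hz, hzx, hzmax, hzd⟩ := exists_max_fibreDimAt (J.subschemeι ≫ f) x₀
    rw [← hzd, fibreClosureDim_closedImmersion, fibreClosureDim_closedImmersion, hζ₀, hζd] at hd
    have hzU : J.subschemeι.base z ∈ U := (hzx.map J.subschemeι.continuous).mem_open U.isOpen (hx₀.symm ▸ D.mem)
    refine hmax _ (hz.trans (congrArg f.base hx₀)) (isFibreMax_of_le f D hzU hd) ?_
    exact (show ζ ⤳ J.subschemeι.base z from specializes_iff_mem_closure.2 (hrange ▸ ⟨z, rfl⟩)).mem_closed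
      (X.zeroLocus_isClosed _) hξ
  have h1 := one_le_dimBetween hζξ hne
  have hle := stalk_dim_le_one g hξ hξmax
  refine ⟨le_antisymm hle (h1.trans (dimBetween_le_stalk ζ ξ)), fun hsmall ↦ ?_⟩
  have hη : f.base ξ = genericPoint Y := by
    by_contra hne'
    obtain ⟨z', hz'y, hz'ξ, hz'max, hz'd⟩ := exists_max_fibreDimAt f ξ
    have hd' : fibreClosureDim f z' = e := hz'd.trans (D.fibreDimAt_eq f hξU)
    have n1 : z' ≠ ξ := fun h ↦ by
      rw [h] at hd'
      rw [hd'] at hsmall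
      have : e + 1 ≤ e := by exact_mod_cast hsmall
      omega
    obtain ⟨ζ', hζ', hζ'z⟩ := DvrDomLib.exists_generic_specializes z'
    have hζ'η : f.base ζ' = genericPoint Y := by
      obtain ⟨h1, -⟩ := D.max ζ' (hζ'z.mem_open U.isOpen (hz'ξ.mem_open U.isOpen hξU)) hζ'
      rw [irreducibleComponents_eq_singleton (X := (Y : Type u))] at h1
      exact ((genericPoint_spec Y).eq (show IsGenericPoint (f.base ζ') Set.univ from h1)).symm
    have n2 : ζ' ≠ z' := fun h ↦ hne' (by rw [← hz'y, ← h, hζ'η])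
    have a1 := one_le_dimBetween hζ'z n2
    have a2 := one_le_dimBetween hz'ξ n1
    have a3 := ((dimBetween_add_le hζ'z hz'ξ).trans (dimBetween_le_stalk ζ' ξ)).trans hle
    have : (1 + 1 : WithBot ℕ∞) ≤ 1 := (add_le_add a1 a2).trans a3
    exact absurd (show (1 + 1 : ℕ) ≤ 1 by exact_mod_cast this) (by omega)
  refine ⟨hη, ?_⟩
  have e1 := fibreClosureDim_eq_add f hζξ (hζη.trans hη.symm)
  rw [hζd, le_antisymm ((dimBetween_le_stalk ζ ξ).trans hle) h1] at e1
  exact e1.symm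

theorem localDim_slice_eq {Z : Scheme.{u}} (j : Z ⟶ X) [IsClosedImmersion j] (T : Set X)
    (hj : Set.range j.base = T) (w : Z) (hw : j.base w ∈ T ∩ f.base ⁻¹' {f.base (j.base w)}) :
    FlatMor.localDim ↥(T ∩ f.base ⁻¹' {f.base (j.base w)}) ⟨j.base w, hw⟩ = FlatMor.fibreDimAt (j ≫ f) w := by
  let y := f.base (j.base w)
  let i : ↥((j ≫ f).fiber y) → X := fun v ↦ j.base (((j ≫ f).fiberι y).base v)
  have hi : IsEmbedding i := j.isEmbedding.comp ((j ≫ f).fiberι y).isEmbedding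
  have hrange : Set.range i = T ∩ f.base ⁻¹' {y} := by
    show Set.range (j.base ∘ ((j ≫ f).fiberι y).base) = _
    rw [Set.range_comp, (j ≫ f).range_fiberι y, show (j ≫ f).base ⁻¹' {y} = j.base ⁻¹' (f.base ⁻¹' {y}) from rfl,
      Set.image_preimage_eq_inter_range, hj, Set.inter_comm]
  let h := hi.toHomeomorph.trans (Homeomorph.setCongr hrange)
  have e := FibDimLib.localDim_eq_of_isOpenEmbedding h.isOpenEmbedding ((j ≫ f).asFiber w)
  rw [show h ((j ≫ f).asFiber w) = ⟨j.base w, hw⟩ from Subtype.ext (congrArg j.base ((j ≫ f).fiberι_asFiber w))] at e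
  exact e

theorem isEquidimAt_slice {Z : Scheme.{u}} (j : Z ⟶ X) [IsClosedImmersion j]
    (hj : Set.range j.base = X.zeroLocus ({g} : Set Γ(X, ⊤))) (w : Z) {e : ℕ} {U : X.Opens}
    (D : EquidimData f (j.base w) e U)
    (hmax : ∀ z : X, f.base z = f.base (j.base w) → IsFibreMax f z → z ∉ X.zeroLocus ({g} : Set Γ(X, ⊤))) :
    EGA43.IsEquidimAt (j ≫ f) w := by
  haveI : IsLocallyNoetherian Z := LocallyOfFiniteType.isLocallyNoetherian (j ≫ f)
  obtain ⟨e', he', hd⟩ := fibreDimAt_slice_add_one f g j hj D hmax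
  obtain ⟨V₁, hwV₁, hV₁⟩ := exists_nhd_fibreClosureDim_le (j ≫ f) w hd
  obtain ⟨V, hwV, hVle, hVmax⟩ := exists_open_max_through w (V₁ ⊓ j ⁻¹ᵁ U) ⟨hwV₁, D.mem⟩
  refine isEquidimAt_of_bounds (j ≫ f) w e' V hwV (fun z hz ↦ hV₁ z (hVle hz).1) fun ζ hζ hc ↦ ?_
  have hζw := (hVmax ζ hζ hc).map j.continuous
  obtain ⟨-, h⟩ := component_slice f g D hmax (show j.base ζ ∈ X.zeroLocus _ from hj ▸ ⟨ζ, rfl⟩) hζw
    fun v hv hvζ ↦ by
      rw [← hj] at hv
      obtain ⟨v, rfl⟩ := hv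
      exact congrArg j.base
        (FibDimLib.eq_of_specializes_of_closure_mem hc (j.isEmbedding.isInducing.specializes_iff.1 hvζ))
  have h1 := hV₁ ζ (hVle hζ).1
  rw [fibreClosureDim_closedImmersion] at h1
  obtain ⟨hη, h2⟩ := h ((add_le_add h1 le_rfl).trans (le_of_eq (by exact_mod_cast he')))
  refine ⟨?_, ?_⟩
  · show closure {f.base (j.base ζ)} ∈ _
    rw [hη, irreducibleComponents_eq_singleton (X := (Y : Type u)), genericPoint_closure]
    exact Set.mem_singleton _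
  · rw [fibreClosureDim_closedImmersion]
    obtain ⟨c, hc'⟩ := exists_fibreClosureDim_eq_nat f (j.base ζ)
    rw [hc'] at h2 ⊢
    have : c + 1 = e := by exact_mod_cast h2
    exact_mod_cast (show e' ≤ c by omega)

end HyperLib
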